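import Groth.Agent.PushLib.SpecPush
import Mathlib

/-!
# A closed subscheme of an affine scheme which is a pinching of two closed subschemes
-/

set_option autoImplicit false
universe u

open CategoryTheory CategoryTheory.Limits AlgebraicGeometry

namespace Groth.Agent.AvgLiftLib

theorem exists_closed_pushout {S : Scheme.{u}} {Y X₁ X₂ W : Over S} (θ₁ : Y ⟶ X₁) (θ₂ : Y ⟶ X₂) (k₁ : X₁ ⟶ W)
    (k₂ : X₂ ⟶ W) (w : θ₁ ≫ k₁ = θ₂ ≫ k₂) [IsAffine Y.left] [IsAffine X₁.left] [IsAffine X₂.left] [IsAffine W.left]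
    [IsClosedImmersion θ₂.left]
    (hlift : ∀ b a, θ₁.left.appTop b = θ₂.left.appTop a → ∃ r, k₁.left.appTop r = b ∧ k₂.left.appTop r = a) :
    ∃ (P : Over S) (i : P ⟶ W) (φ₁ : X₁ ⟶ P) (φ₂ : X₂ ⟶ P), IsPushout θ₁ θ₂ φ₁ φ₂ ∧ φ₁ ≫ i = k₁ ∧ φ₂ ≫ i = k₂ ∧
      IsClosedImmersion i.left ∧
      ∀ r, i.left.appTop r = 0 → k₁.left.appTop r = 0 ∧ k₂.left.appTop r = 0 := by
  let J : Ideal Γ(W.left, ⊤) := RingHom.ker k₁.left.appTop.hom ⊓ RingHom.ker k₂.left.appTop.hom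
  have hw : ∀ r, θ₁.left.appTop (k₁.left.appTop r) = θ₂.left.appTop (k₂.left.appTop r) := fun r => by
    rw [← ConcreteCategory.comp_apply, ← ConcreteCategory.comp_apply, ← Scheme.Hom.comp_appTop,
      ← Scheme.Hom.comp_appTop, ← Over.comp_left, ← Over.comp_left, w]
  let F : PushLib.FibSq (Γ(W.left, ⊤) ⧸ J) Γ(X₁.left, ⊤) Γ(X₂.left, ⊤) Γ(Y.left, ⊤) :=
    { u := Ideal.Quotient.lift J k₁.left.appTop.hom fun _ h => h.1
      v := Ideal.Quotient.lift J k₂.left.appTop.hom fun _ h => h.2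
      q := θ₁.left.appTop.hom
      p := θ₂.left.appTop.hom
      w := fun x => by obtain ⟨r, rfl⟩ := Ideal.Quotient.mk_surjective x; exact hw r
      surj := θ₂.left.app_surjective ⊤ (isAffineOpen_top _)
      inj := fun x y h1 h2 => by
        obtain ⟨r, rfl⟩ := Ideal.Quotient.mk_surjective x
        obtain ⟨r', rfl⟩ := Ideal.Quotient.mk_surjective y
        refine Ideal.Quotient.eq.2 ⟨?_, ?_⟩
        · exact RingHom.mem_ker.2 (by rw [map_sub, sub_eq_zero]; exact h1)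
        · exact RingHom.mem_ker.2 (by rw [map_sub, sub_eq_zero]; exact h2)
      lift := fun b a h => by
        obtain ⟨r, h1, h2⟩ := hlift b a h
        exact ⟨Ideal.Quotient.mk J r, h1, h2⟩ }
  have h : IsPushout θ₁.left θ₂.left (X₁.left.isoSpec.hom ≫ PushLib.specMap F.u) (X₂.left.isoSpec.hom ≫ PushLib.specMap F.v) :=
    IsPushout.of_iso F.isPushout.flip Y.left.isoSpec.symm X₁.left.isoSpec.symm X₂.left.isoSpec.symm (Iso.refl _)
      ((Scheme.isoSpec_inv_naturality θ₁.left)) ((Scheme.isoSpec_inv_naturality θ₂.left))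
      (by simp) (by simp)
  let g : Spec (CommRingCat.of (Γ(W.left, ⊤) ⧸ J)) ⟶ W.left :=
    Spec.map (CommRingCat.ofHom (Ideal.Quotient.mk J)) ≫ W.left.isoSpec.inv
  have hk₁ : (X₁.left.isoSpec.hom ≫ PushLib.specMap F.u) ≫ g = k₁.left := by
    rw [Category.assoc, ← Spec.map_comp_assoc,
      show CommRingCat.ofHom (Ideal.Quotient.mk J) ≫ CommRingCat.ofHom F.u = k₁.left.appTop from rfl,
      Scheme.isoSpec_inv_naturality, Iso.hom_inv_id_assoc]
  have hk₂ : (X₂.left.isoSpec.hom ≫ PushLib.specMap F.v) ≫ g = k₂.left := by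
    rw [Category.assoc, ← Spec.map_comp_assoc,
      show CommRingCat.ofHom (Ideal.Quotient.mk J) ≫ CommRingCat.ofHom F.v = k₂.left.appTop from rfl,
      Scheme.isoSpec_inv_naturality, Iso.hom_inv_id_assoc]
  let P : Over S := Over.mk (g ≫ W.hom)
  let i : P ⟶ W := Over.homMk g rfl
  let φ₁ : X₁ ⟶ P := Over.homMk (X₁.left.isoSpec.hom ≫ PushLib.specMap F.u) (by
    show _ ≫ g ≫ W.hom = _; rw [← Category.assoc, hk₁, Over.w k₁])
  let φ₂ : X₂ ⟶ P := Over.homMk (X₂.left.isoSpec.hom ≫ PushLib.specMap F.v) (by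
    show _ ≫ g ≫ W.hom = _; rw [← Category.assoc, hk₂, Over.w k₂])
  haveI : IsClosedImmersion (Spec.map (CommRingCat.ofHom (Ideal.Quotient.mk J))) :=
    IsClosedImmersion.spec_of_surjective _ Ideal.Quotient.mk_surjective
  refine ⟨P, i, φ₁, φ₂, IsPushout.of_map (Over.forget S) (by ext : 1; exact h.w) h,
    Over.OverMorphism.ext hk₁, Over.OverMorphism.ext hk₂, inferInstanceAs (IsClosedImmersion g), fun r hr => ⟨?_, ?_⟩⟩
  · rw [← show φ₁.left ≫ i.left = k₁.left from hk₁, Scheme.Hom.comp_appTop, ConcreteCategory.comp_apply, hr, map_zero]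
  · rw [← show φ₂.left ≫ i.left = k₂.left from hk₂, Scheme.Hom.comp_appTop, ConcreteCategory.comp_apply, hr, map_zero]

end Groth.Agent.AvgLiftLib
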