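import Groth.Agent.AvgLiftLib.Lift
import Groth.Agent.AvgLiftLib.Closed
import Groth.Agent.PinchActLib.Main
import Groth.Prelude.Def_Magnet3
import Groth.Prelude.Def_Magnet4

/-!
# Attractors are formally smooth along smooth morphisms and along faces
-/

set_option autoImplicit false
set_option linter.style.haveILetI false
universe u

open CategoryTheory CategoryTheory.Limits MonoidalCategory CartesianMonoidalCategory MonObj AlgebraicGeometry Opposite
open Magnet
open MagnetLib (isAffine_amonS_tensor)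

noncomputable section

namespace Groth.Agent.AvgLiftLib

variable {S : Scheme.{u}}

theorem thick_of_sq_zero {A : Type u} [CommRing A] {I : Ideal A} (hI : I ^ 2 = ⊥) {T₀ T : Over S} (j : T₀ ⟶ T)
    (e : CommRingCat.of A ≅ Γ(T.left, ⊤)) (e₀ : CommRingCat.of (A ⧸ I) ≅ Γ(T₀.left, ⊤)) [IsClosedImmersion j.left]
    (h : e.hom ≫ j.left.appTop = CommRingCat.ofHom (Ideal.Quotient.mk I) ≫ e₀.hom) : Thick j := by
  refine ⟨inferInstance, fun a b ha hb => ?_⟩
  have hm : ∀ z, j.left.appTop z = 0 → e.inv z ∈ I := fun z hz => by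
    have h' := congrArg (fun φ => φ (e.inv z)) h
    simp only [ConcreteCategory.comp_apply, Iso.inv_hom_id_apply] at h'
    rw [hz] at h'
    exact Ideal.Quotient.eq_zero_iff_mem.1 ((e₀.commRingCatIsoToRingEquiv.injective (h'.symm.trans (map_zero _).symm)))
  have : e.inv a * e.inv b ∈ I ^ 2 := by rw [pow_two]; exact Ideal.mul_mem_mul (hm a ha) (hm b hb)
  rw [hI, Submodule.mem_bot, ← map_mul] at this
  simpa using congrArg e.hom this

theorem thick_spec {A : Type u} [CommRing A] {I : Ideal A} (hI : I ^ 2 = ⊥) (str : Spec (CommRingCat.of A) ⟶ S) :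
    Thick (Over.homMk (Spec.map (CommRingCat.ofHom (Ideal.Quotient.mk I))) rfl :
      Over.mk (Spec.map (CommRingCat.ofHom (Ideal.Quotient.mk I)) ≫ str) ⟶ Over.mk str) := by
  haveI : IsClosedImmersion (Over.homMk (Spec.map (CommRingCat.ofHom (Ideal.Quotient.mk I))) rfl :
      Over.mk (Spec.map (CommRingCat.ofHom (Ideal.Quotient.mk I)) ≫ str) ⟶ Over.mk str).left :=
    IsClosedImmersion.spec_of_surjective _ Ideal.Quotient.mk_surjective
  exact thick_of_sq_zero hI _ (Scheme.ΓSpecIso _).symm (Scheme.ΓSpecIso _).symm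
    (Scheme.ΓSpecIso_inv_naturality _).symm

variable {M : Type} [AddCommGroup M]

theorem exists_lift_postcomp (N : AddSubmonoid M) {X Y T₀ T : Over S} [IsAffine T.left] (aX : MonAct (AMonS S M) X)
    (aY : MonAct (AMonS S M) Y) (f : X ⟶ Y) (hf : MonAct.IsEquivariant aX aY f) [Smooth f.left] {j : T₀ ⟶ T}
    (hj : Thick j) (x : (attr aX N).obj (op T₀)) (y : (attr aY N).obj (op T))
    (h : x.1 ≫ f = (AMonS S N ◁ j) ≫ y.1) :
    ∃ l : (attr aX N).obj (op T), (AMonS S N ◁ j) ≫ l.1 = x.1 ∧ l.1 ≫ f = y.1 := by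
  haveI := isAffine_amonS_tensor (S := S) N T
  obtain ⟨l, hl, h1, h2⟩ := exists_equivariant_lift (hj.whiskerLeft (N := N))
    ((subAct S M N).prod (MonAct.trivial _ T₀)) ((subAct S M N).prod (MonAct.trivial _ T))
    (MonAct.prod_trivial_act_whiskerLeft (subAct S M N) j) aX aY f hf x.1 x.2 y.1 y.2 h
  exact ⟨⟨l, hl⟩, h1, h2⟩

theorem exists_lift_face {N F : AddSubmonoid M} (hF : IsFace N F) {X T₀ T : Over S} [IsAffine T.left] [Smooth X.hom]
    (a : MonAct (AMonS S M) X) {j : T₀ ⟶ T} (hj : Thick j) (x : (attr a N).obj (op T₀)) (y : (attr a F).obj (op T))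
    (h : (AMonS.faceMap S hF ▷ T₀) ≫ x.1 = (AMonS S F ◁ j) ≫ y.1) :
    ∃ l : (attr a N).obj (op T), (AMonS S N ◁ j) ≫ l.1 = x.1 ∧ (AMonS.faceMap S hF ▷ T) ≫ l.1 = y.1 := by
  haveI := hj.cl
  haveI := hj.isAffine₀
  haveI := isAffine_amonS_tensor (S := S) N T
  haveI := isAffine_amonS_tensor (S := S) F T
  haveI := isAffine_amonS_tensor (S := S) N T₀
  haveI := isAffine_amonS_tensor (S := S) F T₀
  let incl : AMonS S N ⟶ AMonS S F := AMonS.map S (AddSubmonoid.inclusion hF.le)
  have hid : ∀ Q : Over S, (AMonS.faceMap S hF ▷ Q) ≫ (incl ▷ Q) = 𝟙 _ := fun Q => by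
    rw [← comp_whiskerRight, AMonS.faceMap_comp_map, id_whiskerRight]
  haveI : IsClosedImmersion (AMonS.faceMap S hF ▷ T₀).left := by
    haveI : IsClosedImmersion ((AMonS.faceMap S hF ▷ T₀).left ≫ (incl ▷ T₀).left) := by
      rw [← Over.comp_left, hid, Over.id_left]
      infer_instance
    exact IsClosedImmersion.of_comp _ (incl ▷ T₀).left
  haveI : IsClosedImmersion (AMonS S F ◁ j).left := PinchActLib.isClosedImmersion_whiskerLeft _ j
  haveI : IsClosedImmersion (AMonS S N ◁ j).left := PinchActLib.isClosedImmersion_whiskerLeft _ j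
  obtain ⟨P, i, φ₁, φ₂, hP, h1, h2, hci, hker⟩ := exists_closed_pushout (AMonS S F ◁ j) (AMonS.faceMap S hF ▷ T₀)
    (AMonS.faceMap S hF ▷ T) (AMonS S N ◁ j) (whisker_exchange _ _) fun b a' hab => by
      obtain ⟨r, hr⟩ := (AMonS S N ◁ j).left.app_surjective ⊤ (isAffineOpen_top _) a'
      let d := b - (AMonS.faceMap S hF ▷ T).left.appTop r
      have app : ∀ {U V W : Over S} (p : U ⟶ V) (q : V ⟶ W) (z : Γ(W.left, ⊤)),
          p.left.appTop (q.left.appTop z) = (p ≫ q).left.appTop z := fun p q z => by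
        rw [Over.comp_left, Scheme.Hom.comp_appTop]; rfl
      have hd : (AMonS S F ◁ j).left.appTop d = 0 := by
        rw [map_sub, app, whisker_exchange, ← app, show (AMonS S N ◁ j).left.appTop r = a' from hr, hab, sub_self]
      refine ⟨r + (incl ▷ T).left.appTop d, ?_, ?_⟩
      · rw [map_add, app, hid]
        simp [d]
      · rw [map_add, app, whisker_exchange, ← app, hd, map_zero, add_zero]
        exact hr
  haveI := hci
  have hi : Thick i := ⟨hci, fun p q hp hq => (hj.whiskerLeft (N := N)).sq p q (hker p hp).2 (hker q hq).2⟩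
  haveI := PinchActLib.flat_amonS S M
  haveI := PinchActLib.isClosedImmersion_whiskerLeft (AMonS S M) (AMonS.faceMap S hF ▷ T₀)
  haveI := PinchActLib.isClosedImmersion_whiskerLeft (AMonS S M) (AMonS S F ◁ j)
  have hA := PinchActLib.isPushout_whiskerLeft (AMonS S M) hP
  have hAA := PinchActLib.isPushout_whiskerLeft (AMonS S M) hA
  have hface : ∀ Q : Over S, MonAct.IsEquivariant ((subAct S M F).prod (MonAct.trivial (AMonS S M) Q))
      ((subAct S M N).prod (MonAct.trivial (AMonS S M) Q)) (AMonS.faceMap S hF ▷ Q) := fun Q =>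
    (MonAct.isEquivariant_iff _ _ _).2 fun W g z => by
      rw [← lift_comp_fst_snd z, MonAct.lift_prod_act_assoc, lift_whiskerRight, lift_whiskerRight,
        MonAct.lift_prod_act, Category.assoc]
      congr 1
      exact (MonAct.isEquivariant_iff _ _ _).1 (isEquivariant_faceMapS S hF) W g _
  obtain ⟨aP, e₁, e₂, e₃⟩ := PinchActLib.exists_act ((subAct S M F).prod (MonAct.trivial (AMonS S M) T₀))
    ((subAct S M F).prod (MonAct.trivial _ T)) ((subAct S M N).prod (MonAct.trivial _ T₀)) hP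
    (MonAct.prod_trivial_act_whiskerLeft (subAct S M F) j) (hface T₀) hA hAA
  have hie : MonAct.IsEquivariant aP ((subAct S M N).prod (MonAct.trivial _ T)) i := by
    have := e₃ _ ((subAct S M N).prod (MonAct.trivial (AMonS S M) T)) _ _ (whisker_exchange _ _) (hface T)
      (MonAct.prod_trivial_act_whiskerLeft (subAct S M N) j)
    convert! this using 1
    exact hP.hom_ext (h1.trans (hP.inl_desc _ _ _).symm) (h2.trans (hP.inr_desc _ _ _).symm)
  have hx := e₃ X a y.1 x.1 h.symm y.2 x.2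
  haveI : Smooth (toUnit X).left := ‹Smooth X.hom›
  obtain ⟨l, hl, hl1, -⟩ := exists_equivariant_lift hi aP _ hie a (MonAct.trivial _ (𝟙_ (Over S))) (toUnit X)
    (toUnit_unique _ _) _ hx (toUnit _) (toUnit_unique _ _) (toUnit_unique _ _)
  refine ⟨⟨l, hl⟩, ?_, ?_⟩
  · rw [← h2, Category.assoc, hl1, hP.inr_desc]
  · rw [← h1, Category.assoc, hl1, hP.inl_desc]

end Groth.Agent.AvgLiftLib

end
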