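import Groth.Agent.PushLib.SpecPush
import Groth.Agent.PinchActLib.Over
import Groth.Agent.MagnetLib.Dominant

/-!
# Averaging over a diagonalizable group along a square-zero thickening of affine schemes

For a square-zero thickening `i : P₀ ⟶ P` of affine `S`-schemes and the group `D(M)`, a family
`Φ : D(M) ⊗ P ⟶ Z` which is constant with value `x` over `P₀` has an average `P ⟶ Z` extending `x`:
`Φ` and `x` factor through the pinched scheme `Spec (R/J ×_{(R/J)[M]} R[M])`, and taking the
coefficient of degree zero is a ring map from this ring to `R` because `J² = 0`.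
-/

set_option autoImplicit false
set_option linter.style.haveILetI false
universe u

open CategoryTheory CategoryTheory.Limits MonoidalCategory CartesianMonoidalCategory MonObj AlgebraicGeometry
open Magnet
open AttrPtLib (chi chi_zero chi_add chi_mul chi_comp)
open MagnetLib (funMap funMap_single bijective_funMap)

noncomputable section

namespace Groth.Agent.AvgLiftLib

variable {S : Scheme.{u}} {M : Type} [AddCommGroup M]

/-- A square-zero thickening. -/
structure Thick {P₀ P : Over S} (i : P₀ ⟶ P) : Prop where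
  cl : IsClosedImmersion i.left
  sq : ∀ a b, i.left.appTop a = 0 → i.left.appTop b = 0 → a * b = 0

section

variable {N : Type} [AddCommMonoid N]

theorem funMap_C (T : Over S) (r : Γ(T.left, ⊤)) :
    funMap N T (MonoidAlgebra.single 1 r) = (snd (AMonS S N) T).left.appTop r := by
  rw [show (1 : Multiplicative N) = Multiplicative.ofAdd 0 from rfl, funMap_single, chi_zero, _root_.mul_one]

theorem funMap_whiskerLeft {T' T : Over S} (e : T' ⟶ T) (w : MonoidAlgebra Γ(T.left, ⊤) (Multiplicative N)) :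
    (AMonS S N ◁ e).left.appTop (funMap N T w) = funMap N T' (MonoidAlgebra.mapRingHom _ e.left.appTop.hom w) := by
  refine DFunLike.congr_fun (MonoidAlgebra.ringHom_ext (f := (AMonS S N ◁ e).left.appTop.hom.comp (funMap N T))
    (g := (funMap N T').comp (MonoidAlgebra.mapRingHom _ e.left.appTop.hom)) (fun r => ?_) fun m => ?_) w
  · simp only [RingHom.comp_apply, MonoidAlgebra.mapRingHom_single, funMap_C]
    rw [← ConcreteCategory.comp_apply, ← Scheme.Hom.comp_appTop, ← Over.comp_left, whiskerLeft_snd]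
    rfl
  · simp only [RingHom.comp_apply, MonoidAlgebra.mapRingHom_single, map_one]
    rw [show m = Multiplicative.ofAdd (Multiplicative.toAdd m) from rfl, funMap_single, funMap_single, map_one, map_one,
      _root_.one_mul, _root_.one_mul, ← chi_comp, whiskerLeft_fst]

end

/-- Translation along `q` and `t` on monoid algebras. -/
def twistMap {T' T : Over S} (q : T' ⟶ T) (t : T' ⟶ AMonS S M) :
    MonoidAlgebra Γ(T.left, ⊤) (Multiplicative M) →+* MonoidAlgebra Γ(T'.left, ⊤) (Multiplicative M) :=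
  MonoidAlgebra.liftNCRingHom (MonoidAlgebra.singleOneRingHom.comp q.left.appTop.hom)
    { toFun := fun m => MonoidAlgebra.single m (chi t m.toAdd)
      map_one' := by rw [toAdd_one, chi_zero]; rfl
      map_mul' := fun a b => by rw [MonoidAlgebra.single_mul_single, toAdd_mul, chi_add] } fun _ _ => Commute.all _ _

theorem twistMap_single {T' T : Over S} (q : T' ⟶ T) (t : T' ⟶ AMonS S M) (m : Multiplicative M) (r : Γ(T.left, ⊤)) :
    twistMap q t (MonoidAlgebra.single m r) = MonoidAlgebra.single m (q.left.appTop r * chi t m.toAdd) := by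
  simp [twistMap, MonoidAlgebra.liftNCRingHom, MonoidAlgebra.single_mul_single]

theorem coeff_one_twistMap {T' T : Over S} (q : T' ⟶ T) (t : T' ⟶ AMonS S M)
    (w : MonoidAlgebra Γ(T.left, ⊤) (Multiplicative M)) :
    (twistMap q t w).coeff 1 = q.left.appTop (w.coeff 1) := by
  classical
  induction w using MonoidAlgebra.induction_linear with
  | zero => simp
  | add a b ha hb => simp [ha, hb]
  | single m r =>
    rw [twistMap_single, MonoidAlgebra.coeff_single_apply, MonoidAlgebra.coeff_single_apply]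
    split_ifs with h
    · subst h; rw [toAdd_one, chi_zero, _root_.mul_one]
    · exact (map_zero _).symm

/-- The translation `(g, p) ↦ (t(p) g, q(p))`. -/
def tau {T' T : Over S} (q : T' ⟶ T) (t : T' ⟶ AMonS S M) : AMonS S M ⊗ T' ⟶ AMonS S M ⊗ T :=
  lift ((snd _ _ ≫ t) * fst _ _) (snd _ _ ≫ q)

theorem funMap_tau {T' T : Over S} (q : T' ⟶ T) (t : T' ⟶ AMonS S M)
    (w : MonoidAlgebra Γ(T.left, ⊤) (Multiplicative M)) :
    (tau q t).left.appTop (funMap M T w) = funMap M T' (twistMap q t w) := by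
  refine DFunLike.congr_fun (MonoidAlgebra.ringHom_ext (f := (tau q t).left.appTop.hom.comp (funMap M T))
    (g := (funMap M T').comp (twistMap q t)) (fun r => ?_) fun m => ?_) w
  · simp only [RingHom.comp_apply, twistMap_single, toAdd_one, chi_zero, _root_.mul_one, funMap_C]
    rw [← ConcreteCategory.comp_apply, ← Scheme.Hom.comp_appTop, ← Over.comp_left, tau, lift_snd,
      Over.comp_left, Scheme.Hom.comp_appTop, ConcreteCategory.comp_apply]
  · simp only [RingHom.comp_apply, twistMap_single, map_one, _root_.one_mul]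
    rw [show m = Multiplicative.ofAdd (Multiplicative.toAdd m) from rfl, funMap_single, funMap_single, map_one,
      _root_.one_mul, ← chi_comp, tau, lift_fst, chi_mul, chi_comp]
    rfl

variable (M) in
/-- The ring of the pinched scheme. -/
def pinch {P₀ P : Over S} (i : P₀ ⟶ P) : Subring (Γ(P₀.left, ⊤) × Γ((AMonS S M ⊗ P).left, ⊤)) :=
  RingHom.eqLocus ((snd (AMonS S M) P₀).left.appTop.hom.comp (RingHom.fst _ _))
    ((AMonS S M ◁ i).left.appTop.hom.comp (RingHom.snd _ _))

variable {P₀ P : Over S} [IsAffine P.left]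

variable (M) in
/-- Monoid algebra coordinates. -/
def coord (P : Over S) [IsAffine P.left] :
    MonoidAlgebra Γ(P.left, ⊤) (Multiplicative M) ≃+* Γ((AMonS S M ⊗ P).left, ⊤) :=
  RingEquiv.ofBijective (funMap M P) (bijective_funMap M P)

variable {i : P₀ ⟶ P}

theorem Thick.isAffine₀ (h : Thick i) : IsAffine P₀.left :=
  haveI := h.cl
  isAffine_of_isAffineHom i.left

theorem Thick.coeff_mem (h : Thick i) (x : pinch M i) (m : Multiplicative M) :
    i.left.appTop (((coord M P).symm x.1.2).coeff m) = (MonoidAlgebra.single (1 : Multiplicative M) x.1.1).coeff m := by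
  haveI := h.isAffine₀
  have e : (snd (AMonS S M) P₀).left.appTop x.1.1 = (AMonS S M ◁ i).left.appTop x.1.2 := x.2
  rw [← (coord M P).apply_symm_apply x.1.2] at e
  change _ = (AMonS S M ◁ i).left.appTop (funMap M P _) at e
  rw [funMap_whiskerLeft, ← funMap_C] at e
  rw [(bijective_funMap M P₀).1 e]
  exact (MonoidAlgebra.coeff_mapRingHom _ _ _).symm

theorem Thick.mul_eq_zero {N : Type} [AddCommMonoid N] (h : Thick i) (e e' : MonoidAlgebra Γ(P.left, ⊤) (Multiplicative N))
    (he : ∀ m, i.left.appTop (e.coeff m) = 0) (he' : ∀ m, i.left.appTop (e'.coeff m) = 0) : e * e' = 0 := by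
  classical
  ext m
  rw [MonoidAlgebra.coeff_mul]
  simp only [Finsupp.sum, MonoidAlgebra.coeff_zero, Finsupp.coe_zero, Pi.zero_apply]
  refine Finset.sum_eq_zero fun a _ => Finset.sum_eq_zero fun b _ => ?_
  rw [h.sq _ _ (he a) (he' b)]
  simp

/-- The coefficient of degree zero, as a ring map on the pinched ring. -/
def Thick.ret (h : Thick i) : pinch M i →+* Γ(P.left, ⊤) where
  toFun x := ((coord M P).symm x.1.2).coeff 1
  map_one' := by simp [MonoidAlgebra.one_def]
  map_zero' := by simp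
  map_add' x y := by simp
  map_mul' x y := by
    classical
    let w := (coord M P).symm x.1.2
    let w' := (coord M P).symm y.1.2
    show ((coord M P).symm (x.1.2 * y.1.2)).coeff 1 = w.coeff 1 * w'.coeff 1
    rw [map_mul]
    have key : ∀ z : pinch M i, ∀ m, i.left.appTop (((coord M P).symm z.1.2 -
        MonoidAlgebra.single 1 (((coord M P).symm z.1.2).coeff 1)).coeff m) = 0 := fun z m => by
      rw [MonoidAlgebra.coeff_sub, Finsupp.sub_apply, map_sub, h.coeff_mem, MonoidAlgebra.coeff_single_apply,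
        MonoidAlgebra.coeff_single_apply]
      split_ifs with hm
      · rw [h.coeff_mem, MonoidAlgebra.coeff_single_apply, if_pos rfl, sub_self]
      · rw [map_zero, sub_zero]
    have h0 := congrArg (fun v => MonoidAlgebra.coeff v 1) (h.mul_eq_zero _ _ (key x) (key y))
    simp only [_root_.mul_sub, _root_.sub_mul, MonoidAlgebra.coeff_sub, Finsupp.sub_apply,
      MonoidAlgebra.coeff_zero, Finsupp.coe_zero, Pi.zero_apply, MonoidAlgebra.coeff_single_one_mul,
      MonoidAlgebra.coeff_mul_single_one, Finsupp.smul_apply, MonoidAlgebra.coeff_single, Finsupp.single_eq_same] at h0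
    linear_combination h0

theorem Thick.ret_app (h : Thick i) (x : pinch M i) : i.left.appTop (h.ret x) = x.1.1 := by
  classical
  exact (h.coeff_mem x 1).trans (by rw [MonoidAlgebra.coeff_single_apply, if_pos rfl])

variable (M) in
/-- The pinching fibre square. -/
def Thick.sqr (h : Thick i) : PushLib.FibSq (pinch M i) Γ(P₀.left, ⊤) Γ((AMonS S M ⊗ P).left, ⊤)
    Γ((AMonS S M ⊗ P₀).left, ⊤) where
  u := (RingHom.fst _ _).comp (pinch M i).subtype
  v := (RingHom.snd _ _).comp (pinch M i).subtype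
  q := (snd (AMonS S M) P₀).left.appTop.hom
  p := (AMonS S M ◁ i).left.appTop.hom
  w := fun x => x.2
  surj := by
    haveI := h.cl
    haveI := MagnetLib.isAffine_amonS_tensor (S := S) M P
    haveI := PinchActLib.isClosedImmersion_whiskerLeft (AMonS S M) i
    exact (AMonS S M ◁ i).left.app_surjective ⊤ (isAffineOpen_top _)
  inj := fun x y h1 h2 => Subtype.ext (Prod.ext h1 h2)
  lift := fun b a h => ⟨⟨(b, a), h⟩, rfl, rfl⟩

variable {Z : Scheme.{u}}

theorem Thick.exists_desc (h : Thick i) (Φ : (AMonS S M ⊗ P).left ⟶ Z) (x : P₀.left ⟶ Z)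
    (w : (AMonS S M ◁ i).left ≫ Φ = (snd (AMonS S M) P₀).left ≫ x) :
    ∃ k : Spec (.of (pinch M i)) ⟶ Z, P₀.left.toSpecΓ ≫ PushLib.specMap (h.sqr M).u ≫ k = x ∧
      (AMonS S M ⊗ P).left.toSpecΓ ≫ PushLib.specMap (h.sqr M).v ≫ k = Φ := by
  haveI := h.isAffine₀
  haveI := MagnetLib.isAffine_amonS_tensor (S := S) M P
  haveI := MagnetLib.isAffine_amonS_tensor (S := S) M P₀
  obtain ⟨k, hu, hv⟩ := (h.sqr M).exists_desc (P₀.left.isoSpec.inv ≫ x) ((AMonS S M ⊗ P).left.isoSpec.inv ≫ Φ) (by
    change Spec.map _ ≫ _ = Spec.map _ ≫ _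
    simp only [Thick.sqr, CommRingCat.ofHom_hom, Scheme.isoSpec_inv_naturality_assoc, w])
  refine ⟨k, ?_, ?_⟩
  · rw [hu]; exact P₀.left.isoSpec.hom_inv_id_assoc x
  · rw [hv]; exact (AMonS S M ⊗ P).left.isoSpec.hom_inv_id_assoc Φ

theorem Thick.desc_unique (h : Thick i) {k k' : Spec (.of (pinch M i)) ⟶ Z}
    (hu : P₀.left.toSpecΓ ≫ PushLib.specMap (h.sqr M).u ≫ k = P₀.left.toSpecΓ ≫ PushLib.specMap (h.sqr M).u ≫ k')
    (hv : (AMonS S M ⊗ P).left.toSpecΓ ≫ PushLib.specMap (h.sqr M).v ≫ k =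
      (AMonS S M ⊗ P).left.toSpecΓ ≫ PushLib.specMap (h.sqr M).v ≫ k') : k = k' := by
  haveI := h.isAffine₀
  haveI := MagnetLib.isAffine_amonS_tensor (S := S) M P
  exact (h.sqr M).hom_ext ((cancel_epi _).1 hu) ((cancel_epi _).1 hv)

/-- The average. -/
def Thick.avg (h : Thick i) (Φ : (AMonS S M ⊗ P).left ⟶ Z) (x : P₀.left ⟶ Z)
    (w : (AMonS S M ◁ i).left ≫ Φ = (snd (AMonS S M) P₀).left ≫ x) : P.left ⟶ Z :=
  P.left.toSpecΓ ≫ Spec.map (CommRingCat.ofHom (h.ret (M := M))) ≫ (h.exists_desc Φ x w).choose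

theorem Thick.avg_eq (h : Thick i) {Φ : (AMonS S M ⊗ P).left ⟶ Z} {x : P₀.left ⟶ Z}
    (w : (AMonS S M ◁ i).left ≫ Φ = (snd (AMonS S M) P₀).left ≫ x) (k : Spec (.of (pinch M i)) ⟶ Z)
    (hu : P₀.left.toSpecΓ ≫ PushLib.specMap (h.sqr M).u ≫ k = x)
    (hv : (AMonS S M ⊗ P).left.toSpecΓ ≫ PushLib.specMap (h.sqr M).v ≫ k = Φ) :
    h.avg Φ x w = P.left.toSpecΓ ≫ Spec.map (CommRingCat.ofHom (h.ret (M := M))) ≫ k := by
  rw [Thick.avg, h.desc_unique (k := (h.exists_desc Φ x w).choose) (k' := k)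
    ((h.exists_desc Φ x w).choose_spec.1.trans hu.symm) ((h.exists_desc Φ x w).choose_spec.2.trans hv.symm)]

theorem Thick.comp_avg (h : Thick i) (Φ : (AMonS S M ⊗ P).left ⟶ Z) (x : P₀.left ⟶ Z)
    (w : (AMonS S M ◁ i).left ≫ Φ = (snd (AMonS S M) P₀).left ≫ x) : i.left ≫ h.avg Φ x w = x := by
  refine Eq.trans ?_ (h.exists_desc Φ x w).choose_spec.1
  rw [Thick.avg, Scheme.toSpecΓ_naturality_assoc, ← Spec.map_comp_assoc]
  congr 3
  ext z
  exact h.ret_app z

theorem Thick.avg_comp (h : Thick i) {Z' : Scheme.{u}} (f : Z ⟶ Z') (Φ : (AMonS S M ⊗ P).left ⟶ Z) (x : P₀.left ⟶ Z)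
    (w : (AMonS S M ◁ i).left ≫ Φ = (snd (AMonS S M) P₀).left ≫ x) :
    h.avg Φ x w ≫ f = h.avg (Φ ≫ f) (x ≫ f) (by rw [← Category.assoc, w, Category.assoc]) := by
  obtain ⟨h1, h2⟩ := (h.exists_desc Φ x w).choose_spec
  rw [h.avg_eq (Φ := Φ ≫ f) _ ((h.exists_desc Φ x w).choose ≫ f)
    ((by simp only [Category.assoc] : _ = (P₀.left.toSpecΓ ≫ _ ≫ _) ≫ f).trans (congrArg (· ≫ f) h1))
    ((by simp only [Category.assoc] : _ = ((AMonS S M ⊗ P).left.toSpecΓ ≫ _ ≫ _) ≫ f).trans (congrArg (· ≫ f) h2))]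
  simp only [Thick.avg, Category.assoc]

theorem Thick.avg_const (h : Thick i) (y : P.left ⟶ Z) :
    h.avg (M := M) ((snd (AMonS S M) P).left ≫ y) (i.left ≫ y)
      (by rw [← Category.assoc, ← Category.assoc, ← Over.comp_left, ← Over.comp_left, whiskerLeft_snd]) = y := by
  let cst : Γ(P.left, ⊤) →+* pinch M i :=
    (i.left.appTop.hom.prod (snd (AMonS S M) P).left.appTop.hom).codRestrict _ fun r => by
      show (i.left.appTop ≫ (snd (AMonS S M) P₀).left.appTop) r = ((snd (AMonS S M) P).left.appTop ≫ _) r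
      rw [← Scheme.Hom.comp_appTop, ← Scheme.Hom.comp_appTop, ← Over.comp_left, ← Over.comp_left, whiskerLeft_snd]
  have hs : (h.ret (M := M)).comp cst = RingHom.id _ := by
    classical
    ext r
    show ((coord M P).symm ((snd (AMonS S M) P).left.appTop r)).coeff 1 = r
    rw [← funMap_C, show funMap M P _ = coord M P _ from rfl, RingEquiv.symm_apply_apply,
      MonoidAlgebra.coeff_single_apply, if_pos rfl]
  rw [h.avg_eq _ (Spec.map (CommRingCat.ofHom cst) ≫ P.left.isoSpec.inv ≫ y)]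
  · rw [← Spec.map_comp_assoc, ← CommRingCat.ofHom_comp, hs]
    simp only [CommRingCat.ofHom_id, Spec.map_id, Category.id_comp]
    exact P.left.isoSpec.hom_inv_id_assoc y
  · rw [← Spec.map_comp_assoc, ← CommRingCat.ofHom_comp,
      show (h.sqr M).u.comp cst = i.left.appTop.hom from RingHom.ext fun _ => rfl, CommRingCat.ofHom_hom,
      ← Scheme.toSpecΓ_naturality_assoc]
    exact congrArg (i.left ≫ ·) (P.left.isoSpec.hom_inv_id_assoc y)
  · rw [← Spec.map_comp_assoc, ← CommRingCat.ofHom_comp,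
      show (h.sqr M).v.comp cst = (snd (AMonS S M) P).left.appTop.hom from RingHom.ext fun _ => rfl,
      CommRingCat.ofHom_hom, ← Scheme.toSpecΓ_naturality_assoc]
    exact congrArg ((snd (AMonS S M) P).left ≫ ·) (P.left.isoSpec.hom_inv_id_assoc y)

theorem Thick.avg_natural (h : Thick i) {P₀' P' : Over S} [IsAffine P'.left] {i' : P₀' ⟶ P'} (h' : Thick i')
    (q₀ : P₀' ⟶ P₀) (q : P' ⟶ P) (hq : q₀ ≫ i = i' ≫ q) (t : P' ⟶ AMonS S M)
    (Φ : (AMonS S M ⊗ P).left ⟶ Z) (x : P₀.left ⟶ Z)
    (w : (AMonS S M ◁ i).left ≫ Φ = (snd (AMonS S M) P₀).left ≫ x) :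
    q.left ≫ h.avg Φ x w = h'.avg ((tau q t).left ≫ Φ) (q₀.left ≫ x) (by
      have e : (AMonS S M ◁ i') ≫ tau q t = tau q₀ (i' ≫ t) ≫ (AMonS S M ◁ i) := by
        apply CartesianMonoidalCategory.hom_ext <;> simp [tau, MonObj.comp_mul, hq]
      rw [← Category.assoc, ← Over.comp_left, e, Over.comp_left, Category.assoc, w, ← Category.assoc, ← Over.comp_left,
        tau, lift_snd, Over.comp_left, Category.assoc]) := by
  have e : (AMonS S M ◁ i') ≫ tau q t = tau q₀ (i' ≫ t) ≫ (AMonS S M ◁ i) := by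
    apply CartesianMonoidalCategory.hom_ext <;> simp [tau, MonObj.comp_mul, hq]
  let β : pinch M i →+* pinch M i' :=
    ((q₀.left.appTop.hom.comp (h.sqr M).u).prod ((tau q t).left.appTop.hom.comp (h.sqr M).v)).codRestrict _ fun z => by
      show (q₀.left.appTop ≫ (snd (AMonS S M) P₀').left.appTop) z.1.1 =
        ((tau q t).left.appTop ≫ (AMonS S M ◁ i').left.appTop) z.1.2
      rw [← Scheme.Hom.comp_appTop, ← Scheme.Hom.comp_appTop, ← Over.comp_left, ← Over.comp_left, e,
        show snd _ _ ≫ q₀ = tau q₀ (i' ≫ t) ≫ snd _ _ by rw [tau, lift_snd]]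
      simp only [Over.comp_left, Scheme.Hom.comp_appTop, ConcreteCategory.comp_apply]
      exact congrArg _ z.2
  have hs : (h'.ret (M := M)).comp β = q.left.appTop.hom.comp (h.ret (M := M)) := by
    ext z
    show ((coord M P').symm ((tau q t).left.appTop z.1.2)).coeff 1 = q.left.appTop (((coord M P).symm z.1.2).coeff 1)
    conv_lhs => rw [← (coord M P).apply_symm_apply z.1.2]
    rw [show coord M P _ = funMap M P _ from rfl, funMap_tau, show funMap M P' _ = coord M P' _ from rfl,
      RingEquiv.symm_apply_apply, coeff_one_twistMap]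
  obtain ⟨h1, h2⟩ := (h.exists_desc Φ x w).choose_spec
  rw [h'.avg_eq _ (Spec.map (CommRingCat.ofHom β) ≫ (h.exists_desc Φ x w).choose)]
  · rw [Thick.avg, Scheme.toSpecΓ_naturality_assoc, ← Spec.map_comp_assoc, ← Spec.map_comp_assoc,
      ← CommRingCat.ofHom_comp, hs, CommRingCat.ofHom_comp, CommRingCat.ofHom_hom]
  · rw [← Spec.map_comp_assoc, ← CommRingCat.ofHom_comp,
      show (h'.sqr M).u.comp β = q₀.left.appTop.hom.comp (h.sqr M).u from RingHom.ext fun _ => rfl,
      CommRingCat.ofHom_comp, CommRingCat.ofHom_hom, Spec.map_comp_assoc, ← Scheme.toSpecΓ_naturality_assoc]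
    exact congrArg (q₀.left ≫ ·) h1
  · rw [← Spec.map_comp_assoc, ← CommRingCat.ofHom_comp,
      show (h'.sqr M).v.comp β = (tau q t).left.appTop.hom.comp (h.sqr M).v from RingHom.ext fun _ => rfl,
      CommRingCat.ofHom_comp, CommRingCat.ofHom_hom, Spec.map_comp_assoc, ← Scheme.toSpecΓ_naturality_assoc]
    exact congrArg ((tau q t).left ≫ ·) h2

end Groth.Agent.AvgLiftLib

end
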