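import Groth.Agent.AvgLiftLib.Avg

/-!
# The average as a morphism over the base
-/

set_option autoImplicit false
universe u

open CategoryTheory CategoryTheory.Limits MonoidalCategory CartesianMonoidalCategory MonObj AlgebraicGeometry
open Magnet
open AttrPtLib (chi chi_zero chi_add chi_mul chi_comp)
open MagnetLib (funMap bijective_funMap isAffine_amonS_tensor)

noncomputable section

namespace Groth.Agent.AvgLiftLib

variable {S : Scheme.{u}} {M : Type} [AddCommGroup M] {P₀ P : Over S} [IsAffine P.left] {i : P₀ ⟶ P}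
  {Z Z' : Over S}

theorem Thick.whiskerLeft {N : Type} [AddCommMonoid N] (h : Thick i) : Thick (AMonS S N ◁ i) := by
  haveI := h.cl
  refine ⟨PinchActLib.isClosedImmersion_whiskerLeft _ i, fun a b ha hb => ?_⟩
  haveI := h.isAffine₀
  obtain ⟨v, rfl⟩ := (bijective_funMap N P).2 a
  obtain ⟨w, rfl⟩ := (bijective_funMap N P).2 b
  rw [funMap_whiskerLeft] at ha hb
  have z : ∀ e, funMap N P₀ (MonoidAlgebra.mapRingHom _ i.left.appTop.hom e) = 0 → ∀ m, i.left.appTop (e.coeff m) = 0 :=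
    fun e he m => by
      have he' := congrArg (fun z => MonoidAlgebra.coeff z m)
        ((bijective_funMap N P₀).1 (he.trans (map_zero _).symm))
      simpa using he'
  rw [← map_mul, h.mul_eq_zero v w (z v ha) (z w hb), map_zero]

/-- The average over the base. -/
def Thick.avgO (h : Thick i) (Φ : AMonS S M ⊗ P ⟶ Z) (x : P₀ ⟶ Z) (w : (AMonS S M ◁ i) ≫ Φ = snd _ _ ≫ x) : P ⟶ Z :=
  Over.homMk (h.avg Φ.left x.left (congrArg (fun f => f.left) w)) <| by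
    rw [h.avg_comp]
    refine Eq.trans ?_ (h.avg_const (M := M) P.hom)
    congr 1
    · rw [Over.w Φ, ← Over.w (snd (AMonS S M) P)]
    · rw [Over.w x, Over.w i]

theorem Thick.avgO_congr (h : Thick i) {Φ Φ' : AMonS S M ⊗ P ⟶ Z} {x x' : P₀ ⟶ Z}
    (w : (AMonS S M ◁ i) ≫ Φ = snd _ _ ≫ x) (w' : (AMonS S M ◁ i) ≫ Φ' = snd _ _ ≫ x') (e : Φ = Φ') (e' : x = x') :
    h.avgO Φ x w = h.avgO Φ' x' w' := by
  subst e; subst e'; rfl

theorem Thick.comp_avgO (h : Thick i) (Φ : AMonS S M ⊗ P ⟶ Z) (x : P₀ ⟶ Z)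
    (w : (AMonS S M ◁ i) ≫ Φ = snd _ _ ≫ x) : i ≫ h.avgO Φ x w = x :=
  Over.OverMorphism.ext (h.comp_avg _ _ (congrArg (fun f => f.left) w))

theorem Thick.avgO_comp (h : Thick i) (f : Z ⟶ Z') (Φ : AMonS S M ⊗ P ⟶ Z) (x : P₀ ⟶ Z)
    (w : (AMonS S M ◁ i) ≫ Φ = snd _ _ ≫ x) :
    h.avgO Φ x w ≫ f = h.avgO (Φ ≫ f) (x ≫ f) (by rw [← Category.assoc, w, Category.assoc]) :=
  Over.OverMorphism.ext (h.avg_comp _ _ _ (congrArg (fun f => f.left) w))

theorem Thick.avgO_const (h : Thick i) (y : P ⟶ Z) :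
    h.avgO (M := M) (snd _ _ ≫ y) (i ≫ y) (by rw [← Category.assoc, ← Category.assoc, whiskerLeft_snd]) = y :=
  Over.OverMorphism.ext (h.avg_const y.left)

theorem Thick.avgO_natural (h : Thick i) {P₀' P' : Over S} [IsAffine P'.left] {i' : P₀' ⟶ P'} (h' : Thick i')
    (q₀ : P₀' ⟶ P₀) (q : P' ⟶ P) (hq : q₀ ≫ i = i' ≫ q) (t : P' ⟶ AMonS S M)
    (Φ : AMonS S M ⊗ P ⟶ Z) (x : P₀ ⟶ Z) (w : (AMonS S M ◁ i) ≫ Φ = snd _ _ ≫ x) :
    q ≫ h.avgO Φ x w = h'.avgO (tau q t ≫ Φ) (q₀ ≫ x) (by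
      rw [show (AMonS S M ◁ i') ≫ tau q t ≫ Φ = tau q₀ (i' ≫ t) ≫ (AMonS S M ◁ i) ≫ Φ from ?_, w,
        ← Category.assoc, tau, lift_snd, Category.assoc]
      simp only [← Category.assoc]
      congr 1
      apply CartesianMonoidalCategory.hom_ext <;> simp [tau, MonObj.comp_mul, hq]) :=
  Over.OverMorphism.ext (h.avg_natural h' q₀ q hq t _ _ (congrArg (fun f => f.left) w))

theorem Thick.avgO_lift (h : Thick i) (Φ : AMonS S M ⊗ P ⟶ Z) (x : P₀ ⟶ Z)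
    (w : (AMonS S M ◁ i) ≫ Φ = snd _ _ ≫ x) (Φ' : AMonS S M ⊗ P ⟶ Z') (x' : P₀ ⟶ Z')
    (w' : (AMonS S M ◁ i) ≫ Φ' = snd _ _ ≫ x') :
    lift (h.avgO Φ x w) (h.avgO Φ' x' w') = h.avgO (lift Φ Φ') (lift x x') (by rw [comp_lift, comp_lift, w, w']) := by
  apply CartesianMonoidalCategory.hom_ext
  · rw [lift_fst, h.avgO_comp]; exact h.avgO_congr _ _ (lift_fst _ _).symm (lift_fst _ _).symm
  · rw [lift_snd, h.avgO_comp]; exact h.avgO_congr _ _ (lift_snd _ _).symm (lift_snd _ _).symm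

end Groth.Agent.AvgLiftLib

end
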