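import Groth.Agent.AvgLiftLib.Attr
import Groth.Agent.MonoPtLib.LimLfp
import Groth.Agent.TorsTupleLib.SmoothCrit

/-!
# Maps of attractors are locally of finite presentation
-/

set_option autoImplicit false
set_option linter.style.haveILetI false
universe u

open CategoryTheory CategoryTheory.Limits MonoidalCategory CartesianMonoidalCategory MonObj AlgebraicGeometry Opposite
open Magnet AlgSp
open MagnetLib (isAffine_amonS_tensor)

noncomputable section

namespace Groth.Agent.AvgLiftLib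

variable {S : Scheme.{u}}

section limit

variable {I : Type u} [SmallCategory I] [IsCofiltered I]

/-- Tensoring preserves cofiltered limits. -/
theorem nonempty_isLimit_tensor (A : Over S) {D : I ⥤ Over S} {c : Cone D}
    (hc : IsLimit ((Over.forget S).mapCone c)) :
    Nonempty (IsLimit ((Over.forget S).mapCone ((tensorLeft A).mapCone c))) := by
  haveI : IsConnected I := IsCofiltered.isConnected I
  let i₀ : I := Classical.arbitrary I
  let pA (s : Cone ((D ⋙ tensorLeft A) ⋙ Over.forget S)) (k : I) : s.pt ⟶ A.left := s.π.app k ≫ (fst A (D.obj k)).left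
  have hpA : ∀ (s : Cone ((D ⋙ tensorLeft A) ⋙ Over.forget S)) (k : I), pA s k = pA s i₀ := fun s k => by
    refine constant_of_preserves_morphisms (fun j => pA s j) (fun j₁ j₂ φ => ?_) k i₀
    show s.π.app j₁ ≫ _ = s.π.app j₂ ≫ _
    rw [← s.w φ, Category.assoc]
    exact congrArg (s.π.app j₁ ≫ ·) (congrArg (fun m => m.left) (whiskerLeft_fst A (D.map φ))).symm
  let sD (s : Cone ((D ⋙ tensorLeft A) ⋙ Over.forget S)) : Cone (D ⋙ Over.forget S) :=
    { pt := s.pt
      π :=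
        { app := fun k => s.π.app k ≫ (snd A (D.obj k)).left
          naturality := fun j₁ j₂ φ => by
            show 𝟙 _ ≫ s.π.app j₂ ≫ _ = (s.π.app j₁ ≫ _) ≫ (D.map φ).left
            rw [Category.id_comp, ← s.w φ, Category.assoc, Category.assoc]
            exact congrArg (s.π.app j₁ ≫ ·) (congrArg (fun m => m.left) (whiskerLeft_snd A (D.map φ))) } }
  have key : ∀ (Q : Scheme.{u}) (l : Q ⟶ c.pt.left) (r : Q ⟶ (A ⊗ D.obj i₀).left),
      l ≫ (c.π.app i₀).left = r ≫ (snd A (D.obj i₀)).left →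
        (r ≫ (fst A (D.obj i₀)).left) ≫ A.hom = l ≫ c.pt.hom := fun Q l r h2 => by
    have h3 : (c.π.app i₀).left ≫ (D.obj i₀).hom = c.pt.hom := Over.w (c.π.app i₀)
    refine Eq.trans ?_ (congrArg (l ≫ ·) h3)
    refine Eq.trans ?_ (Category.assoc _ _ _)
    refine Eq.trans ?_ (congrArg (· ≫ (D.obj i₀).hom) h2).symm
    rw [Category.assoc, Category.assoc, Over.w (fst A (D.obj i₀)), Over.w (snd A (D.obj i₀))]
  have hw : ∀ (s : Cone ((D ⋙ tensorLeft A) ⋙ Over.forget S)),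
      (pA s i₀ ≫ A.hom : s.pt ⟶ S) = (hc.lift (sD s) : s.pt ⟶ c.pt.left) ≫ c.pt.hom := fun s =>
    key s.pt (hc.lift (sD s)) (s.π.app i₀) (hc.fac (sD s) i₀)
  refine ⟨{ lift := fun s => pullback.lift (pA s i₀) (hc.lift (sD s)) (hw s), fac := fun s k => ?_, uniq := fun s m hm => ?_ }⟩
  · change pullback.lift _ _ _ ≫ (A ◁ c.π.app k).left = _
    refine pullback.hom_ext (f := A.hom) (g := (D.obj k).hom) ?_ ?_
    · rw [Category.assoc]
      refine Eq.trans ?_ (hpA s k).symm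
      exact (congrArg (pullback.lift _ _ (hw s) ≫ ·) (congrArg (fun f => f.left) (whiskerLeft_fst A (c.π.app k)))).trans
        (pullback.lift_fst _ _ (hw s))
    · rw [Category.assoc]
      refine Eq.trans ?_ (hc.fac (sD s) k)
      exact (congrArg (pullback.lift _ _ (hw s) ≫ ·) (congrArg (fun f => f.left) (whiskerLeft_snd A (c.π.app k)))).trans
        (pullback.lift_snd_assoc _ _ (hw s) _)
  · refine pullback.hom_ext (f := A.hom) (g := c.pt.hom) ?_ ?_
    · refine Eq.trans ?_ (pullback.lift_fst _ _ (hw s)).symm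
      refine Eq.trans ?_ (congrArg (· ≫ (fst A (D.obj i₀)).left) (hm i₀))
      exact Eq.trans (congrArg (m ≫ ·) (congrArg (fun f => f.left) (whiskerLeft_fst A (c.π.app i₀))).symm) (Category.assoc m _ _).symm
    · refine Eq.trans ?_ (pullback.lift_snd _ _ (hw s)).symm
      refine hc.uniq (sD s) _ fun k => ?_
      refine Eq.trans (Category.assoc m _ _) ?_
      refine Eq.trans ?_ (congrArg (· ≫ (snd A (D.obj k)).left) (hm k))
      exact Eq.trans (congrArg (m ≫ ·) (congrArg (fun f => f.left) (whiskerLeft_snd A (c.π.app k))).symm) (Category.assoc m _ _).symm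

variable {D : I ⥤ Over S} {c : Cone D}

theorem exists_lift_stage (hc : IsLimit ((Over.forget S).mapCone c)) (hD : ∀ i, IsAffine (D.obj i).left)
    (hT : IsAffine c.pt.left) {X Y : Over S} (f : X ⟶ Y) [LocallyOfFinitePresentation f.left] (x : c.pt ⟶ X) (i : I)
    (y : D.obj i ⟶ Y) (e : x ≫ f = c.π.app i ≫ y) :
    ∃ (i' : I) (φ : i' ⟶ i) (x' : D.obj i' ⟶ X), c.π.app i' ≫ x' = x ∧ x' ≫ f = D.map φ ≫ y := by
  obtain ⟨i', φ, x', h1, h2⟩ := MonoPtLib.exists_lift_stage D c hc hD hT (IsAlgSpace.yon_obj X) (IsAlgSpace.yon_obj Y)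
    (f := (yon S).map f) ((AlgSpLib.locP_yon_map_iff f).2 ‹_›) ((yon S).map x) i ((yon S).map y)
    (by rw [← Functor.map_comp, e, Functor.map_comp])
  obtain ⟨x', rfl⟩ := (yon S).map_surjective x'
  rw [← Functor.map_comp] at h1
  rw [← Functor.map_comp, ← Functor.map_comp] at h2
  exact ⟨i', φ, x', (yon S).map_injective h1, (yon S).map_injective h2⟩

theorem exists_eq_stage (hc : IsLimit ((Over.forget S).mapCone c)) (hD : ∀ i, IsAffine (D.obj i).left)
    {X Y : Over S} (f : X ⟶ Y) [LocallyOfFiniteType f.left] (i : I) (a b : D.obj i ⟶ X) (e : a ≫ f = b ≫ f)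
    (e' : c.π.app i ≫ a = c.π.app i ≫ b) : ∃ (j : I) (φ : j ⟶ i), D.map φ ≫ a = D.map φ ≫ b := by
  obtain ⟨j, φ, h⟩ := MonoPtLib.exists_eq_stage D c hc hD (IsAlgSpace.yon_obj X) (IsAlgSpace.yon_obj Y)
    (f := (yon S).map f) ((AlgSpLib.locP_yon_map_iff f).2 ‹_›) i ((yon S).map a) ((yon S).map b)
    (by rw [← Functor.map_comp, e, Functor.map_comp]) (by rw [← Functor.map_comp, e', Functor.map_comp])
  rw [← Functor.map_comp, ← Functor.map_comp] at h
  exact ⟨j, φ, (yon S).map_injective h⟩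

end limit

theorem lfp_of_lifts {U V : Over S} (j : U ⟶ V)
    (h : ∀ (I : Type u) [SmallCategory I] [IsCofiltered I] (D : I ⥤ Over S) (c : Cone D),
      IsLimit ((Over.forget S).mapCone c) → (∀ i, IsAffine (D.obj i).left) → IsAffine c.pt.left →
      ∀ (x : c.pt ⟶ U) (i : I) (y : D.obj i ⟶ V), x ≫ j = c.π.app i ≫ y →
      ∃ (i' : I) (φ : i' ⟶ i) (x' : D.obj i' ⟶ U), c.π.app i' ≫ x' = x ∧ x' ≫ j = D.map φ ≫ y) :
    LocallyOfFinitePresentation j.left := by
  refine (AlgSpLib.locP_yon_map_iff j).1 (MonoPtLib.locP_lfp_of_lifts (IsAlgSpace.yon_obj U) (IsAlgSpace.yon_obj V)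
    fun I _ _ D c hc hD hT x i y e => ?_)
  obtain ⟨x, rfl⟩ := (yon S).map_surjective x
  obtain ⟨y, rfl⟩ := (yon S).map_surjective y
  rw [← Functor.map_comp, ← Functor.map_comp] at e
  obtain ⟨i', φ, x', h1, h2⟩ := h I D c hc hD hT x i y ((yon S).map_injective e)
  exact ⟨i', φ, (yon S).map x', by rw [← Functor.map_comp, h1], by rw [← Functor.map_comp, h2, Functor.map_comp]⟩

variable {M : Type} [AddCommGroup M] (N : AddSubmonoid M)

/-- A morphism out of `A(N) ⊗ D k`, equivariant at the limit, is equivariant at a later stage. -/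
theorem exists_equivariant_stage {I : Type u} [SmallCategory I] [IsCofiltered I] {D : I ⥤ Over S} {c : Cone D}
    (hc : IsLimit ((Over.forget S).mapCone c)) (hD : ∀ i, IsAffine (D.obj i).left) {X Y : Over S}
    (aX : MonAct (AMonS S M) X) (aY : MonAct (AMonS S M) Y) (f : X ⟶ Y) (hf : MonAct.IsEquivariant aX aY f)
    [LocallyOfFiniteType f.left] (k : I) (gm : AMonS S N ⊗ D.obj k ⟶ X)
    (hgmf : MonAct.IsEquivariant ((subAct S M N).prod (MonAct.trivial _ (D.obj k))) aY (gm ≫ f))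
    (hgm : MonAct.IsEquivariant ((subAct S M N).prod (MonAct.trivial _ c.pt)) aX ((AMonS S N ◁ c.π.app k) ≫ gm)) :
    ∃ (l : I) (φ : l ⟶ k),
      MonAct.IsEquivariant ((subAct S M N).prod (MonAct.trivial _ (D.obj l))) aX ((AMonS S N ◁ D.map φ) ≫ gm) := by
  obtain ⟨hc₁⟩ := nonempty_isLimit_tensor (AMonS S N) hc
  obtain ⟨hc₂⟩ := nonempty_isLimit_tensor (AMonS S M) hc₁
  haveI := hD
  have hD₂ : ∀ i, IsAffine (((D ⋙ tensorLeft (AMonS S N)) ⋙ tensorLeft (AMonS S M)).obj i).left := fun i => by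
    haveI : IsAffine (AMonS S N ⊗ D.obj i).left := isAffine_amonS_tensor (S := S) N (D.obj i)
    exact isAffine_amonS_tensor (S := S) M (AMonS S N ⊗ D.obj i)
  unfold MonAct.IsEquivariant at hf hgm hgmf
  obtain ⟨l, φ, h⟩ := exists_eq_stage hc₂ hD₂ f k
    (((subAct S M N).prod (MonAct.trivial _ (D.obj k))).act ≫ gm) ((AMonS S M ◁ gm) ≫ aX.act)
    (by rw [Category.assoc, hgmf, Category.assoc, hf, MonoidalCategory.whiskerLeft_comp_assoc])
    (by
      show (AMonS S M ◁ (AMonS S N ◁ c.π.app k)) ≫ _ = (AMonS S M ◁ (AMonS S N ◁ c.π.app k)) ≫ _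
      exact (MonAct.prod_trivial_act_whiskerLeft_assoc _ _ _).symm.trans
        (hgm.trans (MonoidalCategory.whiskerLeft_comp_assoc _ _ _ _)))
  refine ⟨l, φ, ?_⟩
  show _ ≫ _ = _
  change (AMonS S M ◁ (AMonS S N ◁ D.map φ)) ≫ _ = (AMonS S M ◁ (AMonS S N ◁ D.map φ)) ≫ _ at h
  rw [MonAct.prod_trivial_act_whiskerLeft_assoc, h, MonoidalCategory.whiskerLeft_comp_assoc]

theorem lfp_postcomp {X Y : Over S} (aX : MonAct (AMonS S M) X) (aY : MonAct (AMonS S M) Y) (f : X ⟶ Y)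
    (hf : MonAct.IsEquivariant aX aY f) [LocallyOfFinitePresentation f.left] {ZX ZY : Over S}
    (eX : (attr aX N).RepresentableBy ZX) (eY : (attr aY N).RepresentableBy ZY) (j : ZX ⟶ ZY)
    (hj : ∀ (T : Over S) (z : T ⟶ ZX),
      eY.homEquiv (z ≫ j) = (MonAct.eqvHom.postcomp (subAct S M N) f hf).app (op T) (eX.homEquiv z)) :
    LocallyOfFinitePresentation j.left := by
  refine lfp_of_lifts j fun I _ _ D c hc hD hT x i y e => ?_
  haveI := hD
  haveI := hT
  have e' : (eX.homEquiv x).1 ≫ f = (AMonS S N ◁ c.π.app i) ≫ (eY.homEquiv y).1 := by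
    have := congrArg eY.homEquiv e
    rw [hj, eY.homEquiv_comp] at this
    exact congrArg Subtype.val this
  obtain ⟨hc₁⟩ := nonempty_isLimit_tensor (AMonS S N) hc
  obtain ⟨k, φ, gm, h1, h2⟩ := exists_lift_stage (D := D ⋙ tensorLeft (AMonS S N)) hc₁
    (fun k => isAffine_amonS_tensor (S := S) N (D.obj k)) (isAffine_amonS_tensor (S := S) N c.pt) f
    (eX.homEquiv x).1 i (eY.homEquiv y).1 e'
  change (AMonS S N ◁ c.π.app k) ≫ gm = _ at h1
  change gm ≫ f = (AMonS S N ◁ D.map φ) ≫ _ at h2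
  obtain ⟨l, ψ, hl⟩ := exists_equivariant_stage N hc hD aX aY f hf k gm
    (by rw [h2]; exact ((attr aY N).map (D.map φ).op (eY.homEquiv y)).2) (by rw [h1]; exact (eX.homEquiv x).2)
  refine ⟨l, ψ ≫ φ, eX.homEquiv.symm ⟨_, hl⟩, eX.homEquiv.injective ?_, eY.homEquiv.injective ?_⟩
  · rw [eX.homEquiv_comp, Equiv.apply_symm_apply]
    refine Subtype.ext ?_
    show (AMonS S N ◁ c.π.app l) ≫ (AMonS S N ◁ D.map ψ) ≫ gm = _
    rw [← MonoidalCategory.whiskerLeft_comp_assoc, c.w, h1]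
  · rw [hj, eY.homEquiv_comp, Equiv.apply_symm_apply]
    refine Subtype.ext ?_
    show ((AMonS S N ◁ D.map ψ) ≫ gm) ≫ f = (AMonS S N ◁ D.map (ψ ≫ φ)) ≫ _
    rw [Category.assoc, h2, Functor.map_comp, MonoidalCategory.whiskerLeft_comp_assoc]

variable {N}

theorem lfp_face {F : AddSubmonoid M} (hF : IsFace N F) {X : Over S} [LocallyOfFinitePresentation X.hom]
    (a : MonAct (AMonS S M) X) {ZN ZF : Over S} (eN : (attr a N).RepresentableBy ZN)
    (eF : (attr a F).RepresentableBy ZF) (j : ZN ⟶ ZF)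
    (hj : ∀ (T : Over S) (z : T ⟶ ZN), eF.homEquiv (z ≫ j) = (attrFace a hF).app (op T) (eN.homEquiv z)) :
    LocallyOfFinitePresentation j.left := by
  refine lfp_of_lifts j fun I _ _ D c hc hD hT x i y e => ?_
  haveI := hD
  haveI := hT
  haveI : LocallyOfFinitePresentation (toUnit X).left := ‹LocallyOfFinitePresentation X.hom›
  haveI : LocallyOfFiniteType (toUnit X).left := inferInstance
  have e' : (AMonS.faceMap S hF ▷ c.pt) ≫ (eN.homEquiv x).1 = (AMonS S F ◁ c.π.app i) ≫ (eF.homEquiv y).1 := by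
    have := congrArg eF.homEquiv e
    rw [hj, eF.homEquiv_comp] at this
    exact congrArg Subtype.val this
  obtain ⟨hc₁⟩ := nonempty_isLimit_tensor (AMonS S N) hc
  obtain ⟨hc₂⟩ := nonempty_isLimit_tensor (AMonS S F) hc
  obtain ⟨k, φ, gm, h1, -⟩ := exists_lift_stage (D := D ⋙ tensorLeft (AMonS S N)) hc₁
    (fun k => isAffine_amonS_tensor (S := S) N (D.obj k)) (isAffine_amonS_tensor (S := S) N c.pt) (toUnit X)
    (eN.homEquiv x).1 i (toUnit _) (toUnit_unique _ _)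
  change (AMonS S N ◁ c.π.app k) ≫ gm = _ at h1
  obtain ⟨k', ψ, h3⟩ := exists_eq_stage (D := D ⋙ tensorLeft (AMonS S F)) hc₂
    (fun k => isAffine_amonS_tensor (S := S) F (D.obj k)) (toUnit X) k
    ((AMonS.faceMap S hF ▷ D.obj k) ≫ gm) ((AMonS S F ◁ D.map φ) ≫ (eF.homEquiv y).1) (toUnit_unique _ _) (by
      show (AMonS S F ◁ c.π.app k) ≫ _ = (AMonS S F ◁ c.π.app k) ≫ _
      refine (whisker_exchange_assoc _ _ _).trans ((congrArg (_ ≫ ·) h1).trans (e'.trans ?_))
      rw [← c.w φ, MonoidalCategory.whiskerLeft_comp_assoc])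
  change (AMonS S F ◁ D.map ψ) ≫ _ = (AMonS S F ◁ D.map ψ) ≫ _ at h3
  obtain ⟨l, χ, hl⟩ := exists_equivariant_stage N hc hD a (MonAct.trivial _ (𝟙_ (Over S))) (toUnit X)
    (toUnit_unique _ _) k' ((AMonS S N ◁ D.map ψ) ≫ gm) (toUnit_unique _ _) (by
      rw [← MonoidalCategory.whiskerLeft_comp_assoc, c.w, h1]; exact (eN.homEquiv x).2)
  refine ⟨l, χ ≫ ψ ≫ φ, eN.homEquiv.symm ⟨_, hl⟩, eN.homEquiv.injective ?_, eF.homEquiv.injective ?_⟩
  · rw [eN.homEquiv_comp, Equiv.apply_symm_apply]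
    refine Subtype.ext ?_
    show (AMonS S N ◁ c.π.app l) ≫ (AMonS S N ◁ D.map χ) ≫ (AMonS S N ◁ D.map ψ) ≫ gm = _
    rw [← MonoidalCategory.whiskerLeft_comp_assoc, c.w, ← MonoidalCategory.whiskerLeft_comp_assoc, c.w, h1]
  · rw [hj, eF.homEquiv_comp, Equiv.apply_symm_apply]
    refine Subtype.ext ?_
    show (AMonS.faceMap S hF ▷ D.obj l) ≫ (AMonS S N ◁ D.map χ) ≫ (AMonS S N ◁ D.map ψ) ≫ gm =
      (AMonS S F ◁ D.map (χ ≫ ψ ≫ φ)) ≫ _
    rw [← whisker_exchange_assoc, ← whisker_exchange_assoc, h3, Functor.map_comp, Functor.map_comp,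
      MonoidalCategory.whiskerLeft_comp_assoc, MonoidalCategory.whiskerLeft_comp_assoc]

theorem smooth_of_formal {U V : Over S} (j : U ⟶ V) [LocallyOfFinitePresentation j.left]
    (h : ∀ (A : Type u) [CommRing A] (I : Ideal A), I ^ 2 = ⊥ → ∀ (str : Spec (CommRingCat.of A) ⟶ S)
      (z₀ : Over.mk (Spec.map (CommRingCat.ofHom (Ideal.Quotient.mk I)) ≫ str) ⟶ U) (w : Over.mk str ⟶ V),
      z₀ ≫ j = (Over.homMk (Spec.map (CommRingCat.ofHom (Ideal.Quotient.mk I))) rfl :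
        Over.mk (Spec.map (CommRingCat.ofHom (Ideal.Quotient.mk I)) ≫ str) ⟶ Over.mk str) ≫ w →
      ∃ l : Over.mk str ⟶ U, (Over.homMk (Spec.map (CommRingCat.ofHom (Ideal.Quotient.mk I))) rfl :
        Over.mk (Spec.map (CommRingCat.ofHom (Ideal.Quotient.mk I)) ≫ str) ⟶ Over.mk str) ≫ l = z₀ ∧ l ≫ j = w) :
    Smooth j.left := by
  refine TorsTuple.smooth_of_lifts j.left fun y => ⟨⊤, trivial, fun A _ I hI p _ τ hτ => ?_⟩
  let str := p ≫ V.hom
  have hτ' : τ ≫ U.hom = Spec.map (CommRingCat.ofHom (Ideal.Quotient.mk I)) ≫ str := by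
    rw [← Over.w j, reassoc_of% hτ]
  obtain ⟨l, h1, h2⟩ := h A I hI str (Over.homMk τ hτ') (Over.homMk p rfl) (Over.OverMorphism.ext hτ)
  exact ⟨l.left, congrArg (fun m => m.left) h1, congrArg (fun m => m.left) h2⟩

end Groth.Agent.AvgLiftLib

end
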