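import Groth.Agent.AvgLiftLib.AvgOver
import Groth.Agent.SqLiftLib.Smooth

/-!
# Equivariant lifting along square-zero thickenings of affine schemes
-/

set_option autoImplicit false
set_option linter.style.haveILetI false
universe u

open CategoryTheory CategoryTheory.Limits MonoidalCategory CartesianMonoidalCategory MonObj AlgebraicGeometry
open Magnet
open AttrPtLib (chi chi_zero chi_add chi_mul chi_comp chi_map chi_ext)
open MagnetLib (isAffine_amonS_tensor)

noncomputable section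

namespace Groth.Agent.AvgLiftLib

variable {S : Scheme.{u}} {M : Type} [AddCommGroup M]

theorem chi_one_pt {T : Over S} (m : M) : chi (1 : T ⟶ AMonS S M) m = 1 := by
  have h : chi (1 : T ⟶ AMonS S M) m = chi 1 m * chi 1 m := by rw [← chi_mul, _root_.mul_one]
  have h' : chi (1 : T ⟶ AMonS S M) m * chi 1 (-m) = 1 := by rw [← chi_add, add_neg_cancel, chi_zero]
  linear_combination (chi (1 : T ⟶ AMonS S M) (-m)) * (-h) + (1 - chi (1 : T ⟶ AMonS S M) m) * h'

variable (S M) in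
/-- Inversion of `D(M)`. -/
def negPt : AMonS S M ⟶ AMonS S M := AMonS.map S (-AddMonoidHom.id M)

theorem chi_negPt {T : Over S} (g : T ⟶ AMonS S M) (m : M) : chi (g ≫ negPt S M) m = chi g (-m) := by
  rw [negPt, chi_map]; rfl

theorem chi_neg_mul {T : Over S} (g : T ⟶ AMonS S M) (m : M) : chi g (-m) * chi g m = 1 := by
  rw [← chi_add, neg_add_cancel, chi_zero]

theorem negPt_mul {T : Over S} (g : T ⟶ AMonS S M) : (g ≫ negPt S M) * g = 1 :=
  chi_ext fun m => by rw [chi_mul, chi_negPt, chi_neg_mul, chi_one_pt]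

theorem mul_negPt {T : Over S} (g : T ⟶ AMonS S M) : g * (g ≫ negPt S M) = 1 :=
  chi_ext fun m => by rw [chi_mul, chi_negPt, _root_.mul_comm, chi_neg_mul, chi_one_pt]

theorem negPt_negPt_mul {T : Over S} (g g' : T ⟶ AMonS S M) :
    ((g' ≫ negPt S M) * g) ≫ negPt S M = (g ≫ negPt S M) * g' :=
  chi_ext fun m => by rw [chi_negPt, chi_mul, chi_mul, chi_negPt, chi_negPt, neg_neg, _root_.mul_comm]

theorem exists_lift_thick {W₀ W X Y : Over S} [IsAffine W.left] {i : W₀ ⟶ W} (h : Thick i) (f : X ⟶ Y) [Smooth f.left]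
    (x : W₀ ⟶ X) (y : W ⟶ Y) (e : x ≫ f = i ≫ y) : ∃ l : W ⟶ X, i ≫ l = x ∧ l ≫ f = y := by
  haveI := h.cl
  haveI := h.isAffine₀
  let R : Type u := Γ(W.left, ⊤)
  let J : Ideal R := RingHom.ker i.left.appTop.hom
  have hJ : J ^ 2 = ⊥ := by
    rw [eq_bot_iff, pow_two, Ideal.mul_le]
    exact fun a ha b hb => (Submodule.mem_bot _).2 (h.sq a b ha hb)
  let ψ : (R ⧸ J) ≃+* Γ(W₀.left, ⊤) :=
    RingHom.quotientKerEquivOfSurjective (i.left.app_surjective ⊤ (isAffineOpen_top _))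
  let yy : Spec (CommRingCat.of R) ⟶ Y.left := W.left.isoSpec.inv ≫ y.left
  let X' : Over (Spec (CommRingCat.of R)) := Over.mk (pullback.snd f.left yy)
  haveI : Smooth X'.hom := MorphismProperty.pullback_snd _ _ ‹Smooth f.left›
  let ε : Spec (CommRingCat.of (R ⧸ J)) ≅ W₀.left :=
    Scheme.Spec.mapIso ψ.symm.toCommRingCatIso.op ≪≫ W₀.left.isoSpec.symm
  have hε : ε.hom ≫ i.left = Spec.map (CommRingCat.ofHom (Ideal.Quotient.mk J)) ≫ W.left.isoSpec.inv := by
    show (Spec.map _ ≫ W₀.left.isoSpec.inv) ≫ i.left = _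
    rw [Category.assoc, ← Scheme.isoSpec_inv_naturality, ← Spec.map_comp_assoc]
    congr 2
    ext r
    exact ψ.symm_apply_eq.2 rfl
  obtain ⟨s, hs⟩ := SqLift.exists_lift_sq (X := X') hJ
    (Over.homMk (pullback.lift (ε.hom ≫ x.left) (Spec.map (CommRingCat.ofHom (Ideal.Quotient.mk J))) (by
      rw [Category.assoc, ← Over.comp_left, e, Over.comp_left, reassoc_of% hε])) (pullback.lift_snd _ _ _))
  have hs1 : s.left ≫ pullback.snd f.left yy = 𝟙 _ := Over.w s
  have hs2 : Spec.map (CommRingCat.ofHom (Ideal.Quotient.mk J)) ≫ s.left = _ := congrArg (fun k => k.left) hs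
  simp only [Over.homMk_left] at hs2
  let l := W.left.isoSpec.hom ≫ s.left ≫ pullback.fst f.left yy
  have hlf : l ≫ f.left = y.left := by
    simp only [l, Category.assoc, pullback.condition, reassoc_of% hs1, yy]
    exact W.left.isoSpec.hom_inv_id_assoc _
  have hl : l ≫ X.hom = W.hom := by rw [← Over.w f, reassoc_of% hlf, Over.w y]
  refine ⟨Over.homMk l hl, Over.OverMorphism.ext ?_, Over.OverMorphism.ext hlf⟩
  show i.left ≫ l = x.left
  rw [← cancel_epi ε.hom, reassoc_of% hε]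
  simp only [l, Iso.inv_hom_id_assoc]
  rw [reassoc_of% hs2, pullback.lift_fst]

variable {W₀ W X Y : Over S}

/-- Equivariant lifting along smooth morphisms. -/
theorem exists_equivariant_lift [IsAffine W.left] {i : W₀ ⟶ W} (h : Thick i) (b₀ : MonAct (AMonS S M) W₀)
    (b : MonAct (AMonS S M) W) (hi : MonAct.IsEquivariant b₀ b i) (aX : MonAct (AMonS S M) X)
    (aY : MonAct (AMonS S M) Y) (f : X ⟶ Y) (hf : MonAct.IsEquivariant aX aY f) [Smooth f.left]
    (x : W₀ ⟶ X) (hx : MonAct.IsEquivariant b₀ aX x) (y : W ⟶ Y) (hy : MonAct.IsEquivariant b aY y)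
    (e : x ≫ f = i ≫ y) :
    ∃ l : W ⟶ X, MonAct.IsEquivariant b aX l ∧ i ≫ l = x ∧ l ≫ f = y := by
  obtain ⟨l₁, hl₁, hl₂⟩ := exists_lift_thick h f x y e
  rw [MonAct.isEquivariant_iff] at hi hf hx hy
  let Φ : AMonS S M ⊗ W ⟶ X :=
    lift (fst _ _) (lift (fst _ _ ≫ negPt S M) (snd _ _) ≫ b.act ≫ l₁) ≫ aX.act
  have hΦ : ∀ (T : Over S) (g : T ⟶ AMonS S M) (p : T ⟶ W),
      lift g p ≫ Φ = lift g (lift (g ≫ negPt S M) p ≫ b.act ≫ l₁) ≫ aX.act := fun T g p => by
    simp only [Φ, comp_lift_assoc, lift_fst, lift_fst_assoc, lift_snd]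
  have w : (AMonS S M ◁ i) ≫ Φ = snd _ _ ≫ x := by
    apply hom_ext_lift₂
    intro T g p
    rw [lift_whiskerLeft_assoc, hΦ, ← reassoc_of% (hi T (g ≫ negPt S M) p), hl₁, hx, ← MonAct.lift_mul_act,
      mul_negPt, MonAct.lift_one_act, lift_snd_assoc]
  have hΦf : Φ ≫ f = snd _ _ ≫ y := by
    apply hom_ext_lift₂
    intro T g p
    rw [← Category.assoc, hΦ, Category.assoc, hf]
    simp only [Category.assoc]
    rw [hl₂, hy, ← MonAct.lift_mul_act, mul_negPt, MonAct.lift_one_act, lift_snd_assoc]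
  refine ⟨h.avgO Φ x w, ?_, h.comp_avgO _ _ _, ?_⟩
  swap
  · rw [h.avgO_comp]
    exact (h.avgO_congr _ (by rw [← Category.assoc, ← Category.assoc, whiskerLeft_snd]) hΦf e).trans
      (h.avgO_const y)
  haveI := isAffine_amonS_tensor (S := S) M W
  have h' := h.whiskerLeft (N := M)
  let q₀ : AMonS S M ⊗ W₀ ⟶ W₀ := b₀.act
  show b.act ≫ _ = _
  rw [h.avgO_natural h' q₀ b.act
    ((MonAct.isEquivariant_iff b₀ b i).2 hi) 1]
  have e1 : (AMonS S M ◁ h.avgO Φ x w) = lift (fst _ _) (snd _ _ ≫ h.avgO Φ x w) := by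
    apply CartesianMonoidalCategory.hom_ext <;> simp
  rw [e1, h.avgO_natural h' (snd _ _) (snd _ _) (whiskerLeft_snd _ _).symm (fst _ _ ≫ negPt S M)]
  refine Eq.trans ?_ (congrArg (fun u => lift u _ ≫ aX.act) (h'.avgO_const (M := M) (fst (AMonS S M) W)))
  rw [h'.avgO_lift, h'.avgO_comp]
  refine h'.avgO_congr _ _ ?_ ?_
  · apply hom_ext_lift₂
    intro T g hp
    rw [← lift_comp_fst_snd hp]
    set u := hp ≫ fst (AMonS S M) W
    set p := hp ≫ snd (AMonS S M) W
    simp only [tau, comp_lift_assoc, lift_snd_assoc, lift_fst, lift_fst_assoc, MonObj.comp_mul,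
      MonObj.comp_one, MonObj.one_comp, _root_.one_mul, hΦ]
    simp only [← Category.assoc _ _ (negPt S M), MonObj.comp_mul, lift_fst, lift_snd, lift_snd_assoc, lift_fst_assoc]
    rw [negPt_negPt_mul, ← MonAct.lift_mul_act, ← _root_.mul_assoc, mul_negPt, _root_.one_mul,
      MonAct.lift_mul_act_assoc]
  · rw [show q₀ ≫ x = (AMonS S M ◁ x) ≫ aX.act from (MonAct.isEquivariant_iff b₀ aX x).2 hx]
    congr 1
    apply CartesianMonoidalCategory.hom_ext <;> simp

end Groth.Agent.AvgLiftLib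

end
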